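import Mathlib
import Cfsg.Agent.Lib.Helper5.Cube.Decomp
import Cfsg.Agent.Lib.Helper4.CarveP2

/-!
Invariant decompositions multiply element orders of `PSL_n(q)` by a prime `r ∣ q - 1`, `r ∤ n`:
scale one summand by an element `ζ` of order `r`.
-/

set_option autoImplicit false

namespace Cfsg.Agent.Lib.Helper5.PSLCube

open Module Cfsg.Agent.Lib.Helper5.PSpCube Cfsg.Agent.Lib.Helper5.SpecBC

section general

variable {F : Type*} [Field F] {V : Type*} [AddCommGroup V] [Module F V]

/-- scaling by `ζ` on `W`, identity on `W'` -/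
noncomputable def scaleMap (W W' : Submodule F V) (hc : IsCompl W W') (ζ : F) : Module.End F V :=
  1 + (ζ - 1) • (W.subtype ∘ₗ Submodule.linearProjOfIsCompl W W' hc)

theorem scaleMap_left {W W' : Submodule F V} (hc : IsCompl W W') (ζ : F) {a : V} (ha : a ∈ W) :
    scaleMap W W' hc ζ a = ζ • a := by
  have h1 : Submodule.linearProjOfIsCompl W W' hc a = ⟨a, ha⟩ :=
    Submodule.linearProjOfIsCompl_apply_left hc ⟨a, ha⟩
  simp only [scaleMap, LinearMap.add_apply, Module.End.one_apply, LinearMap.smul_apply,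
    LinearMap.comp_apply, h1, Submodule.subtype_apply]
  rw [sub_smul, one_smul]
  abel

theorem scaleMap_right {W W' : Submodule F V} (hc : IsCompl W W') (ζ : F) {b : V} (hb : b ∈ W') :
    scaleMap W W' hc ζ b = b := by
  have h1 : Submodule.linearProjOfIsCompl W W' hc b = 0 :=
    (Submodule.linearProjOfIsCompl_apply_eq_zero_iff hc).2 hb
  simp only [scaleMap, LinearMap.add_apply, Module.End.one_apply, LinearMap.smul_apply,
    LinearMap.comp_apply, h1, map_zero, smul_zero, add_zero]

theorem scaleMap_one {W W' : Submodule F V} (hc : IsCompl W W') : scaleMap W W' hc 1 = 1 := by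
  simp [scaleMap]

theorem scaleMap_mul {W W' : Submodule F V} (hc : IsCompl W W') (ζ ξ : F) :
    scaleMap W W' hc ζ * scaleMap W W' hc ξ = scaleMap W W' hc (ζ * ξ) := by
  apply ext_isCompl hc
  · intro a ha
    rw [Module.End.mul_apply, scaleMap_left hc ξ ha, map_smul, scaleMap_left hc ζ ha,
      scaleMap_left hc _ ha, smul_smul, mul_comm]
  · intro b hb
    rw [Module.End.mul_apply, scaleMap_right hc ξ hb, scaleMap_right hc ζ hb,
      scaleMap_right hc _ hb]

theorem scaleMap_pow {W W' : Submodule F V} (hc : IsCompl W W') (ζ : F) (j : ℕ) :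
    scaleMap W W' hc ζ ^ j = scaleMap W W' hc (ζ ^ j) := by
  induction j with
  | zero => rw [pow_zero, pow_zero, scaleMap_one]
  | succ i ih => rw [pow_succ, ih, scaleMap_mul, pow_succ]

theorem scaleMap_commute {W W' : Submodule F V} (hc : IsCompl W W') (ζ : F) {T : Module.End F V}
    (hW : ∀ a ∈ W, T a ∈ W) (hW' : ∀ b ∈ W', T b ∈ W') : Commute T (scaleMap W W' hc ζ) := by
  apply ext_isCompl hc
  · intro a ha
    rw [Module.End.mul_apply, Module.End.mul_apply, scaleMap_left hc ζ ha,
      scaleMap_left hc ζ (hW a ha), map_smul]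
  · intro b hb
    rw [Module.End.mul_apply, Module.End.mul_apply, scaleMap_right hc ζ hb,
      scaleMap_right hc ζ (hW' b hb)]

end general

section main

variable {F : Type*} [Field F] {V : Type*} [AddCommGroup V] [Module F V] [FiniteDimensional F V]

/-- a scalar map of determinant one is given by a nonzero scalar -/
theorem scalar_ne_zero_of_det {n : ℕ} (hn : 1 ≤ n) (hdim : finrank F V = n) {S : Module.End F V}
    (hdet : LinearMap.det S = 1) {c : F} (hS : S = c • 1) : c ≠ 0 := by
  rintro rfl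
  rw [hS, LinearMap.det_smul, hdim, zero_pow (by omega), zero_mul] at hdet
  exact zero_ne_one hdet

/-- **Decomposition lemma** for `PSL`. -/
theorem goodL_of_isCompl {n : ℕ} (hn : 1 ≤ n) (hdim : finrank F V = n) {r : ℕ} (hr : r.Prime)
    (hrn : ¬ r ∣ n) {ζ : F} (hζ : orderOf ζ = r) (T : Module.End F V)
    (hdet : LinearMap.det T = 1) {k : ℕ} (hrk : ¬ r ∣ k)
    (hTk : ∀ j : ℕ, (∃ c : F, T ^ j = c • 1) ↔ k ∣ j)
    (W W' : Submodule F V) (hc : IsCompl W W')
    (hW : ∀ a ∈ W, T a ∈ W) (hW' : ∀ b ∈ W', T b ∈ W') (hW0 : W ≠ ⊥) (hW'0 : W' ≠ ⊥) :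
    r * k ∈ Set.range (orderOf : Matrix.ProjectiveSpecialLinearGroup (Fin n) F → ℕ) := by
  set D := scaleMap W W' hc ζ with hD
  have hcomm : Commute T D := scaleMap_commute hc ζ hW hW'
  have hζr : ζ ^ r = 1 := by rw [← hζ]; exact pow_orderOf_eq_one ζ
  have hDr : D ^ r = 1 := by rw [hD, scaleMap_pow, hζr, scaleMap_one]
  obtain ⟨a₀, ha₀, ha₀0⟩ := (Submodule.ne_bot_iff W).1 hW0
  obtain ⟨b₀, hb₀, hb₀0⟩ := (Submodule.ne_bot_iff W').1 hW'0
  have hcop : Nat.Coprime k r := ((Nat.Prime.coprime_iff_not_dvd hr).2 hrk).symm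
  apply Cfsg.Agent.Lib.Carve.P2.psl_of_abstract hdim hn hr hrn (T * D)
  · refine ⟨1, ?_⟩
    rw [pow_one, map_mul, hdet, one_mul, ← map_pow, hDr, map_one]
  intro j
  rw [hcomm.mul_pow]
  constructor
  · rintro ⟨c, hcj⟩
    -- `k ∣ j`
    have h1 : k ∣ j := by
      have h3 : T ^ (j * r) = c ^ r • 1 := by
        have h4 : (T ^ j * D ^ j) ^ r = T ^ (j * r) := by
          rw [(hcomm.pow_pow j j).mul_pow, ← pow_mul, ← pow_mul, mul_comm j r, pow_mul D, hDr,
            one_pow, mul_one]
        rw [← h4, hcj, smul_pow, one_pow]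
      have h5 := (hTk (j * r)).1 ⟨_, h3⟩
      exact hcop.dvd_of_dvd_mul_right h5
    obtain ⟨c', hc'⟩ := (hTk j).2 h1
    have hc'0 : c' ≠ 0 :=
      scalar_ne_zero_of_det hn hdim (S := T ^ j) (by rw [map_pow, hdet, one_pow]) hc'
    rw [hc', hD, scaleMap_pow] at hcj
    have hb := congrArg (fun f : Module.End F V => f b₀) hcj
    simp only [Module.End.mul_apply, scaleMap_right hc _ hb₀, LinearMap.smul_apply,
      Module.End.one_apply] at hb
    have hcc : c' = c := by
      by_contra hne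
      have h6 : (c' - c) • b₀ = 0 := by rw [sub_smul, hb, sub_self]
      rcases smul_eq_zero.1 h6 with h7 | h7
      · exact hne (sub_eq_zero.1 h7)
      · exact hb₀0 h7
    have ha := congrArg (fun f : Module.End F V => f a₀) hcj
    simp only [Module.End.mul_apply, scaleMap_left hc _ ha₀, LinearMap.smul_apply,
      Module.End.one_apply, smul_smul] at ha
    have hζj : ζ ^ j = 1 := by
      have h6 : (c' * ζ ^ j - c) • a₀ = 0 := by rw [sub_smul, ha, sub_self]
      rcases smul_eq_zero.1 h6 with h7 | h7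
      · rw [← hcc] at h7
        have h8 : c' * (ζ ^ j - 1) = 0 := by rw [mul_sub, mul_one]; exact h7
        rcases mul_eq_zero.1 h8 with h9 | h9
        · exact absurd h9 hc'0
        · exact sub_eq_zero.1 h9
      · exact absurd h7 ha₀0
    have h9 : r ∣ j := by rw [← hζ]; exact orderOf_dvd_of_pow_eq_one hζj
    exact Nat.Coprime.mul_dvd_of_dvd_of_dvd hcop.symm h9 h1
  · intro h
    have h1 : k ∣ j := dvd_trans (Dvd.intro_left _ rfl) h
    have h3 : r ∣ j := dvd_trans (Dvd.intro _ rfl) h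
    obtain ⟨c, hcj⟩ := (hTk j).2 h1
    refine ⟨c, ?_⟩
    obtain ⟨i, rfl⟩ := h3
    rw [hcj, pow_mul, hDr, one_pow, mul_one]

end main

end Cfsg.Agent.Lib.Helper5.PSLCube
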