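import Mathlib

/-!
Carve-out S5: over `F_q`, a map with `y^q = y` has an eigenvector.
-/

set_option autoImplicit false

namespace Cfsg.Agent.Lib.Carve

open Module Polynomial

/-- S5: over `F_q`, a map with `y^q = y` has an eigenvector. -/
theorem S5.exists_eigen {F : Type*} [Field F] [Fintype F] {V : Type*} [AddCommGroup V] [Module F V]
    [FiniteDimensional F V] [Nontrivial V] (y : Module.End F V) (hy : y ^ Fintype.card F = y) :
    ∃ (c : F) (a : V), a ≠ 0 ∧ y a = c • a := by
  classical
  have hdvd : minpoly F y ∣ (X ^ Fintype.card F - X : F[X]) := by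
    apply minpoly.dvd
    rw [map_sub, map_pow, aeval_X, hy, sub_self]
  have hne : (X ^ Fintype.card F - X : F[X]) ≠ 0 :=
    FiniteField.X_pow_card_sub_X_ne_zero F Fintype.one_lt_card
  have hint : IsIntegral F y := Algebra.IsIntegral.isIntegral y
  have hdeg : (minpoly F y).degree ≠ 0 := by
    have := minpoly.degree_pos hint
    exact this.ne'
  -- the roots of the minimal polynomial
  have hsplit : (X ^ Fintype.card F - X : F[X]).Splits := by
    rw [Polynomial.splits_iff_card_roots, FiniteField.roots_X_pow_card_sub_X,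
      FiniteField.X_pow_card_sub_X_natDegree_eq F Fintype.one_lt_card]
    simp
  have hsplit' : (minpoly F y).Splits := hsplit.of_dvd hne hdvd
  obtain ⟨c, hc⟩ := hsplit'.exists_eval_eq_zero hdeg
  have heig : y.HasEigenvalue c := Module.End.hasEigenvalue_of_isRoot hc
  obtain ⟨a, ha⟩ := heig.exists_hasEigenvector
  exact ⟨c, a, ha.2, ha.apply_eq_smul⟩

end Cfsg.Agent.Lib.Carve
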