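import Mathlib

/-!
Carve-out S6: combinatorics of least common multiples and spectra of `G × G × G × r^m`,
`G × G × r^m` for a prime `r` (generalising `Cube/Assemble.lean` from `2` to `r`).
-/

set_option autoImplicit false

namespace Cfsg.Agent.Lib.Carve

namespace S6

section comb

theorem lcm_mul_left {r : ℕ} (hr : r.Prime) (x : ℕ) {y : ℕ} (hy : ¬ r ∣ y) :
    Nat.lcm (r * x) y = r * Nat.lcm x y := by
  have hcop : Nat.Coprime r y := (Nat.Prime.coprime_iff_not_dvd hr).2 hy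
  unfold Nat.lcm
  rw [Nat.Coprime.gcd_mul_left_cancel x hcop, mul_assoc,
    Nat.mul_div_assoc r (Dvd.dvd.mul_right (Nat.gcd_dvd_left x y) y)]

theorem lcm_mul_right {r : ℕ} (hr : r.Prime) {x : ℕ} (y : ℕ) (hx : ¬ r ∣ x) :
    Nat.lcm x (r * y) = r * Nat.lcm x y := by
  rw [Nat.lcm_comm, lcm_mul_left hr y hx, Nat.lcm_comm]

theorem not_dvd_lcm {r : ℕ} (hr : r.Prime) {x y : ℕ} (hx : ¬ r ∣ x) (hy : ¬ r ∣ y) :
    ¬ r ∣ Nat.lcm x y := by
  intro h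
  have h1 : r ∣ x * y := h.trans (Nat.lcm_dvd_mul x y)
  rcases (Nat.Prime.dvd_mul hr).1 h1 with h3 | h3
  · exact hx h3
  · exact hy h3

variable {ω : Set ℕ}

theorem key_triple {r : ℕ} (hr : r.Prime) (h2 : r ∈ ω) {x y z : ℕ} (hz : z ∈ ω) (hxo : ¬ r ∣ x)
    (hyo : ¬ r ∣ y) (hzo : ¬ r ∣ z) (hX : Nat.lcm x y ∈ ω) :
    ∃ a' ∈ ω, ∃ b' ∈ ω, ∃ c' ∈ ω,
      Nat.lcm a' (Nat.lcm b' c') = r * Nat.lcm x (Nat.lcm y z) := by
  refine ⟨Nat.lcm x y, hX, r, h2, z, hz, ?_⟩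
  have h1 : Nat.lcm r z = r * z := by
    have := lcm_mul_left hr 1 hzo
    rwa [mul_one, Nat.lcm_one_left] at this
  rw [h1, lcm_mul_right hr z (not_dvd_lcm hr hxo hyo), Nat.lcm_assoc]

theorem triple_comb {r Q : ℕ} {U : ℕ → Prop} (hr : r.Prime)
    (hU : ∀ k k', U k → U k' → k = k')
    (h1 : ∀ k, ¬ r ∣ k → k ∣ Q → k ∈ ω)
    (h3 : ∀ k, ¬ r ∣ k → k ∈ ω → r * k ∈ ω ∨ k ∣ Q ∨ U k)
    (h2 : r ∈ ω) {a b c : ℕ} (ha : a ∈ ω) (hb : b ∈ ω) (hc : c ∈ ω) (hao : ¬ r ∣ a)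
    (hbo : ¬ r ∣ b) (hco : ¬ r ∣ c) :
    ∃ a' ∈ ω, ∃ b' ∈ ω, ∃ c' ∈ ω,
      Nat.lcm a' (Nat.lcm b' c') = r * Nat.lcm a (Nat.lcm b c) := by
  have hpair : ∀ {x y : ℕ}, ¬ r ∣ x → ¬ r ∣ y → x ∈ ω → ((x ∣ Q ∧ y ∣ Q) ∨ x = y) →
      Nat.lcm x y ∈ ω := by
    intro x y hx hy hxω h
    rcases h with ⟨h, h'⟩ | h
    · exact h1 _ (not_dvd_lcm hr hx hy) (Nat.lcm_dvd h h')
    · rw [← h, Nat.lcm_self]
      exact hxω
  rcases h3 a hao ha with ga | ca
  · exact ⟨r * a, ga, b, hb, c, hc, lcm_mul_left hr a (not_dvd_lcm hr hbo hco)⟩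
  rcases h3 b hbo hb with gb | cb
  · refine ⟨a, ha, r * b, gb, c, hc, ?_⟩
    rw [lcm_mul_left hr b hco, lcm_mul_right hr _ hao]
  rcases h3 c hco hc with gc | cc
  · refine ⟨a, ha, b, hb, r * c, gc, ?_⟩
    rw [lcm_mul_right hr c hbo, lcm_mul_right hr _ hao]
  have hpig : ((a ∣ Q ∧ b ∣ Q) ∨ a = b) ∨ ((a ∣ Q ∧ c ∣ Q) ∨ a = c) ∨
      ((b ∣ Q ∧ c ∣ Q) ∨ b = c) := by
    rcases ca with da | ua <;> rcases cb with db | ub <;> rcases cc with dc | uc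
    · exact Or.inl (Or.inl ⟨da, db⟩)
    · exact Or.inl (Or.inl ⟨da, db⟩)
    · exact Or.inr (Or.inl (Or.inl ⟨da, dc⟩))
    · exact Or.inr (Or.inr (Or.inr (hU _ _ ub uc)))
    · exact Or.inr (Or.inr (Or.inl ⟨db, dc⟩))
    · exact Or.inr (Or.inl (Or.inr (hU _ _ ua uc)))
    · exact Or.inl (Or.inr (hU _ _ ua ub))
    · exact Or.inl (Or.inr (hU _ _ ua ub))
  rcases hpig with h | h | h
  · exact key_triple hr h2 hc hao hbo hco (hpair hao hbo ha h)
  · have := key_triple hr h2 hb hao hco hbo (hpair hao hco ha h)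
    rwa [Nat.lcm_comm c b] at this
  · have := key_triple hr h2 ha hbo hco hao (hpair hbo hco hb h)
    rwa [← Nat.lcm_assoc, Nat.lcm_comm] at this

theorem pair_comb {r Q : ℕ} {U : ℕ → Prop} (hr : r.Prime) (hU : ∀ k, ¬ U k)
    (h1 : ∀ k, ¬ r ∣ k → k ∣ Q → k ∈ ω)
    (h3 : ∀ k, ¬ r ∣ k → k ∈ ω → r * k ∈ ω ∨ k ∣ Q ∨ U k)
    (h2 : r ∈ ω) {a b : ℕ} (ha : a ∈ ω) (hb : b ∈ ω) (hao : ¬ r ∣ a) (hbo : ¬ r ∣ b) :
    ∃ a' ∈ ω, ∃ b' ∈ ω, Nat.lcm a' b' = r * Nat.lcm a b := by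
  rcases h3 a hao ha with ga | da | ua
  · exact ⟨r * a, ga, b, hb, lcm_mul_left hr a hbo⟩
  · rcases h3 b hbo hb with gb | db | ub
    · exact ⟨a, ha, r * b, gb, lcm_mul_right hr b hao⟩
    · refine ⟨Nat.lcm a b, h1 _ (not_dvd_lcm hr hao hbo) (Nat.lcm_dvd da db), r, h2, ?_⟩
      have := lcm_mul_right hr 1 (not_dvd_lcm hr hao hbo)
      rwa [mul_one, Nat.lcm_one_right] at this
    · exact absurd ub (hU b)
  · exact absurd ua (hU a)

end comb

section spectra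

variable {G : Type*} [Group G]

/-- elements of `(ℤ/r)^m` have order `1` or `r` -/
theorem orderOf_elem (r : ℕ) (hr : r.Prime) (m : ℕ) (e : Multiplicative (Fin m → ZMod r)) :
    orderOf e = 1 ∨ orderOf e = r := by
  have h1 : e ^ r = 1 := by
    apply Multiplicative.toAdd.injective
    rw [toAdd_pow, toAdd_one]
    funext i
    simp only [Pi.smul_apply, Pi.zero_apply, nsmul_eq_mul, CharP.cast_eq_zero, zero_mul]
  exact (Nat.dvd_prime hr).1 (orderOf_dvd_of_pow_eq_one h1)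

theorem lcm_of_dvd {N r : ℕ} (h : r ∣ N) : Nat.lcm N r = N :=
  Nat.lcm_eq_left_iff_dvd.2 h

theorem lcm_prime_right {r : ℕ} (hr : r.Prime) {N : ℕ} (h : ¬ r ∣ N) : Nat.lcm N r = r * N := by
  have := lcm_mul_right hr 1 h
  rwa [mul_one, Nat.lcm_one_right] at this

theorem spectrum_triple {r : ℕ} (hr : r.Prime) (m : ℕ)
    (h : ∀ a b c : G, ¬ r ∣ orderOf a → ¬ r ∣ orderOf b → ¬ r ∣ orderOf c →
      ∃ a' b' c' : G, Nat.lcm (orderOf a') (Nat.lcm (orderOf b') (orderOf c')) =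
        r * Nat.lcm (orderOf a) (Nat.lcm (orderOf b) (orderOf c))) :
    Set.range (orderOf : G × G × G × Multiplicative (Fin m → ZMod r) → ℕ) =
      Set.range (orderOf : G × G × G → ℕ) := by
  apply Set.eq_of_subset_of_subset
  · rintro N ⟨⟨a, b, c, e⟩, rfl⟩
    simp only [Prod.orderOf]
    rcases orderOf_elem r hr m e with he | he
    · refine ⟨(a, b, c), ?_⟩
      simp only [Prod.orderOf, he, Nat.lcm_one_right]
    · rw [he]
      have hre : Nat.lcm (orderOf a) (Nat.lcm (orderOf b) (Nat.lcm (orderOf c) r)) =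
          Nat.lcm (Nat.lcm (orderOf a) (Nat.lcm (orderOf b) (orderOf c))) r := by
        rw [Nat.lcm_assoc, Nat.lcm_assoc]
      rw [hre]
      by_cases hev : r ∣ Nat.lcm (orderOf a) (Nat.lcm (orderOf b) (orderOf c))
      · refine ⟨(a, b, c), ?_⟩
        simp only [Prod.orderOf]
        rw [lcm_of_dvd hev]
      · have hao : ¬ r ∣ orderOf a := fun h' => hev (h'.trans (Nat.dvd_lcm_left _ _))
        have hbc : ¬ r ∣ Nat.lcm (orderOf b) (orderOf c) :=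
          fun h' => hev (h'.trans (Nat.dvd_lcm_right _ _))
        have hbo : ¬ r ∣ orderOf b := fun h' => hbc (h'.trans (Nat.dvd_lcm_left _ _))
        have hco : ¬ r ∣ orderOf c := fun h' => hbc (h'.trans (Nat.dvd_lcm_right _ _))
        obtain ⟨a', b', c', habc⟩ := h a b c hao hbo hco
        refine ⟨(a', b', c'), ?_⟩
        simp only [Prod.orderOf]
        rw [habc, lcm_prime_right hr hev]
  · rintro N ⟨⟨a, b, c⟩, rfl⟩
    refine ⟨(a, b, c, 1), ?_⟩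
    simp only [Prod.orderOf, orderOf_one, Nat.lcm_one_right]

theorem spectrum_pair {r : ℕ} (hr : r.Prime) (m : ℕ)
    (h : ∀ a b : G, ¬ r ∣ orderOf a → ¬ r ∣ orderOf b →
      ∃ a' b' : G, Nat.lcm (orderOf a') (orderOf b') = r * Nat.lcm (orderOf a) (orderOf b)) :
    Set.range (orderOf : G × G × Multiplicative (Fin m → ZMod r) → ℕ) =
      Set.range (orderOf : G × G → ℕ) := by
  apply Set.eq_of_subset_of_subset
  · rintro N ⟨⟨a, b, e⟩, rfl⟩
    simp only [Prod.orderOf]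
    rcases orderOf_elem r hr m e with he | he
    · refine ⟨(a, b), ?_⟩
      simp only [Prod.orderOf, he, Nat.lcm_one_right]
    · rw [he, ← Nat.lcm_assoc]
      by_cases hev : r ∣ Nat.lcm (orderOf a) (orderOf b)
      · refine ⟨(a, b), ?_⟩
        simp only [Prod.orderOf]
        rw [lcm_of_dvd hev]
      · have hao : ¬ r ∣ orderOf a := fun h' => hev (h'.trans (Nat.dvd_lcm_left _ _))
        have hbo : ¬ r ∣ orderOf b := fun h' => hev (h'.trans (Nat.dvd_lcm_right _ _))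
        obtain ⟨a', b', hab⟩ := h a b hao hbo
        refine ⟨(a', b'), ?_⟩
        simp only [Prod.orderOf]
        rw [hab, lcm_prime_right hr hev]
  · rintro N ⟨⟨a, b⟩, rfl⟩
    refine ⟨(a, b, 1), ?_⟩
    simp only [Prod.orderOf, orderOf_one, Nat.lcm_one_right]

end spectra

end S6

end Cfsg.Agent.Lib.Carve
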