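import Mathlib
import Cfsg.Agent.Lib.Helper5.CubeL.DecompL
import Cfsg.Agent.Lib.Helper5.Cube.Construct

/-!
The basic construction for `PSL`: `y₀ ⊕ (regular unipotent)`.
-/

set_option autoImplicit false

namespace Cfsg.Agent.Lib.Helper5.PSLCube

open Module Polynomial Cfsg.Agent.Lib.Helper5.PSpCube Cfsg.Agent.Lib.Helper5.PGBC
  Cfsg.Agent.Lib.Carve

universe u

/-- a regular unipotent map of a space of dimension `m` -/
theorem exists_reg_gl (F : Type u) [Field F] (m : ℕ) (hm : 1 ≤ m) :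
    ∃ (W : Type u) (_ : AddCommGroup W) (_ : Module F W) (_ : FiniteDimensional F W)
      (J : Module.End F W), finrank F W = m ∧ (J - 1) ^ m = 0 ∧ (J - 1) ^ (m - 1) ≠ 0 := by
  have hfin : FiniteDimensional F (K1.RR F m) :=
    (AdjoinRoot.powerBasis' (monic_X_pow (R := F) m)).finite
  have hpow : ∀ j : ℕ, (LinearMap.mulLeft F (1 + K1.S F m) - 1) ^ j =
      LinearMap.mulLeft F (K1.S F m ^ j) := by
    intro j
    have h1 : LinearMap.mulLeft F (1 + K1.S F m) - 1 = LinearMap.mulLeft F (K1.S F m) := by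
      apply LinearMap.ext
      intro a
      simp only [LinearMap.sub_apply, LinearMap.mulLeft_apply, Module.End.one_apply]
      ring
    rw [h1]
    apply LinearMap.ext
    intro a
    induction j generalizing a with
    | zero => simp
    | succ i ih =>
      rw [pow_succ, Module.End.mul_apply, ih, LinearMap.mulLeft_apply, LinearMap.mulLeft_apply,
        LinearMap.mulLeft_apply, pow_succ, mul_assoc]
  refine ⟨K1.RR F m, inferInstance, inferInstance, inferInstance,
    LinearMap.mulLeft F (1 + K1.S F m), K1.finrank_RR F m, ?_, ?_⟩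
  · rw [hpow, K1.S_pow_top]
    apply LinearMap.ext
    intro a
    simp
  · rw [hpow]
    intro h
    have h3 := congrArg (fun f : Module.End F (K1.RR F m) => f 1) h
    simp only [LinearMap.mulLeft_apply, mul_one, LinearMap.zero_apply] at h3
    exact K1.S_pow_pred_ne F m hm h3

section construct

variable {F : Type*} [Field F]

/-- in characteristic `p`, a `p`-power root of unity is `1` -/
theorem eq_one_of_pow_char_pow (p : ℕ) [hp : Fact p.Prime] [CharP F p] {c : F} {i : ℕ}
    (h : c ^ (p ^ i) = 1) : c = 1 := by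
  have h1 : (c - 1) ^ (p ^ i) = 0 := by rw [sub_pow_char_pow, h, one_pow, sub_self]
  exact sub_eq_zero.1 (pow_eq_zero_iff (pow_pos hp.out.pos i).ne' |>.1 h1)

variable {W₀ : Type*} [AddCommGroup W₀] [Module F W₀] [FiniteDimensional F W₀]

/-- **Basic construction** for `PSL`. -/
theorem constructL (p : ℕ) [hp : Fact p.Prime] [CharP F p] {n : ℕ} (hn : 1 ≤ n) {r : ℕ}
    (hr : r.Prime) (hrn : ¬ r ∣ n) (y₀ : Module.End F W₀)
    (hdet : ∃ i : ℕ, (LinearMap.det y₀) ^ (r ^ i) = 1) {N₀ : ℕ}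
    (hN₀ : ∀ j : ℕ, y₀ ^ j = 1 ↔ N₀ ∣ j)
    (hpN : Nat.Coprime N₀ p)
    {m : ℕ} (hm : 1 ≤ m) (hdim : finrank F W₀ + m = n) {t : ℕ} (ht : 1 ≤ t)
    (htm : p ^ (t - 1) < m) :
    N₀ * p ^ t ∈ Set.range (orderOf : Matrix.ProjectiveSpecialLinearGroup (Fin n) F → ℕ) := by
  obtain ⟨R, i1, i2, i3, J, hRdim, hJ1, hJ2⟩ := exists_reg_gl F m hm
  have hRnt : Nontrivial R := by
    apply Module.nontrivial_of_finrank_pos (R := F)
    rw [hRdim]
    omega
  obtain ⟨t', htt', hJord⟩ := unip_order p J hJ1 hJ2 ht htm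
  have hJt : J ^ (p ^ t') = 1 := (hJord _).2 dvd_rfl
  have hdetJ : LinearMap.det J = 1 := by
    apply eq_one_of_pow_char_pow p (i := t')
    rw [← map_pow, hJt, map_one]
  have hsc : ∀ {c : F} {j : ℕ}, J ^ j = c • 1 → c = 1 := by
    intro c j h
    apply eq_one_of_pow_char_pow p (i := t')
    have h1 : (J ^ j) ^ (p ^ t') = 1 := by rw [← pow_mul, mul_comm, pow_mul, hJt, one_pow]
    rw [h, _root_.smul_pow, one_pow] at h1
    obtain ⟨w, hw⟩ := exists_ne (0 : R)
    have h3 := congrArg (fun f : Module.End F R => f w) h1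
    simp only [LinearMap.smul_apply, Module.End.one_apply] at h3
    by_contra hne
    have h4 : (c ^ p ^ t' - 1) • w = 0 := by rw [sub_smul, h3, one_smul, sub_self]
    rcases smul_eq_zero.1 h4 with h5 | h5
    · exact hne (sub_eq_zero.1 h5)
    · exact hw h5
  have hcop : Nat.Coprime N₀ (p ^ t') := Nat.Coprime.pow_right _ hpN
  have hmain : N₀ * p ^ t' ∈
      Set.range (orderOf : Matrix.ProjectiveSpecialLinearGroup (Fin n) F → ℕ) := by
    apply Cfsg.Agent.Lib.Carve.P2.psl_of_abstract (V := W₀ × R)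
      (by rw [Module.finrank_prod, hRdim, hdim]) hn hr hrn (LinearMap.prodMap y₀ J)
    · obtain ⟨i, hi⟩ := hdet
      refine ⟨i, ?_⟩
      rw [LinearMap.det_prodMap, hdetJ, mul_one, hi]
    intro j
    rw [prodMap_pow']
    constructor
    · rintro ⟨c, hcj⟩
      obtain ⟨h1, h3⟩ := (prodMap_eq_smul_iff _ _ c).1 hcj
      have hc1 : c = 1 := hsc h3
      rw [hc1, one_smul] at h3 h1
      exact Nat.Coprime.mul_dvd_of_dvd_of_dvd hcop ((hN₀ j).1 h1) ((hJord j).1 h3)
    · intro h
      refine ⟨1, ?_⟩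
      rw [prodMap_eq_smul_iff, one_smul, one_smul]
      exact ⟨(hN₀ j).2 (dvd_trans (Dvd.intro _ rfl) h),
        (hJord j).2 (dvd_trans (Dvd.intro_left _ rfl) h)⟩
  apply dvd_mem_range_orderOf hmain (Nat.mul_dvd_mul_left _ (pow_dvd_pow p htt'))
  have hN0 : N₀ ≠ 0 := by
    rintro rfl
    rw [Nat.coprime_zero_left] at hpN
    exact hp.out.one_lt.ne' hpN
  have := hp.out.pos
  positivity

end construct

end Cfsg.Agent.Lib.Helper5.PSLCube
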