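import Mathlib
import Cfsg.Agent.Lib.Helper5.CubeL.ConstructL
import Cfsg.Agent.Lib.Helper5.Cube.Mixed
import Cfsg.Agent.Lib.Helper5.CubeL.CarveS5

/-!
The unipotent and mixed cases for `PSL_n(q)`.
-/

set_option autoImplicit false

namespace Cfsg.Agent.Lib.Helper5.PSLCube

open Module Cfsg.Agent.Lib.Helper5.PSpCube Cfsg.Agent.Lib.Helper5.PGBC
  Cfsg.Agent.Lib.Helper5.SpecBC Cfsg.Agent.Lib.Carve

section field

variable {F : Type*} [Field F] [Fintype F]

theorem char_dvd_card (p : ℕ) [CharP F p] : p ∣ Fintype.card F :=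
  (CharP.cast_eq_zero_iff F p _).1 (Nat.cast_card_eq_zero F)

theorem coprime_card_sub_one (p : ℕ) [hp : Fact p.Prime] [CharP F p] :
    Nat.Coprime p (Fintype.card F - 1) := by
  rw [Nat.Prime.coprime_iff_not_dvd hp.out]
  intro h
  have h1 := char_dvd_card (F := F) p
  have h3 : 1 < Fintype.card F := Fintype.one_lt_card
  have h4 : p ∣ 1 := by
    have := (Nat.dvd_sub h1 h)
    rwa [Nat.sub_sub_self h3.le] at this
  exact hp.out.one_lt.ne' (Nat.dvd_one.1 h4)

theorem card_sub_one_ne_zero (p : ℕ) [hp : Fact p.Prime] [CharP F p] :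
    ((Fintype.card F - 1 : ℕ) : F) ≠ 0 := by
  rw [Ne, CharP.cast_eq_zero_iff F p]
  intro h
  have := Nat.Coprime.eq_one_of_dvd (coprime_card_sub_one (F := F) p) h
  exact hp.out.one_lt.ne' this

end field

section scalars

variable {F : Type*} [Field F] {V : Type*} [AddCommGroup V] [Module F V]

theorem smul_one_pow (c : F) (j : ℕ) : ((c • 1 : Module.End F V)) ^ j = c ^ j • 1 := by
  rw [smul_pow, one_pow]

theorem smul_one_eq_one_iff [Nontrivial V] (c : F) : (c • 1 : Module.End F V) = 1 ↔ c = 1 := by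
  constructor
  · intro h
    obtain ⟨w, hw⟩ := exists_ne (0 : V)
    have h3 := congrArg (fun f : Module.End F V => f w) h
    simp only [LinearMap.smul_apply, Module.End.one_apply] at h3
    by_contra hne
    have h4 : (c - 1) • w = 0 := by rw [sub_smul, h3, one_smul, sub_self]
    rcases smul_eq_zero.1 h4 with h5 | h5
    · exact hne (sub_eq_zero.1 h5)
    · exact hw h5
  · rintro rfl
    rw [one_smul]

end scalars

section main

variable {F : Type*} [Field F] [Fintype F] {V : Type*} [AddCommGroup V] [Module F V]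
  [FiniteDimensional F V]

/-- the fixed point argument: under indecomposability, a semisimple map commuting with `T` with a
nonzero fixed vector is trivial -/
theorem fix_trivial {T : Module.End F V}
    (hind : ∀ W W' : Submodule F V, IsCompl W W' → (∀ a ∈ W, T a ∈ W) → (∀ b ∈ W', T b ∈ W') →
      W = ⊥ ∨ W' = ⊥)
    {y : Module.End F V} (hcomm : Commute T y) {m : ℕ} (hym : y ^ m = 1) (hmF : (m : F) ≠ 0)
    (hfix : fixS y ≠ ⊥) : y = 1 := by
  have hc := isCompl_fix_mov hym hmF
  rcases hind (fixS y) (movS y) hc (fun a ha => map_mem_fixS hcomm ha)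
    (fun b hb => map_mem_movS hcomm hb) with h | h
  · exact absurd h hfix
  · have h3 : y - 1 = 0 := by
      rw [← LinearMap.range_eq_bot]
      exact h
    exact sub_eq_zero.1 h3

/-- **Unipotent and mixed case** for `PSL`. -/
theorem mixedL_case (p : ℕ) [hp : Fact p.Prime] [CharP F p] {n : ℕ} (hn : 2 ≤ n)
    (hdim : finrank F V = n) {r : ℕ} (hr : r.Prime) (hrn : ¬ r ∣ n) {ζ : F} (hζ : orderOf ζ = r)
    (T : Module.End F V) (hdet : LinearMap.det T = 1) {s t : ℕ} (ht : 1 ≤ t)
    (hsp : Nat.Coprime s p) (hrs : ¬ r ∣ s)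
    (hTk : ∀ j : ℕ, (∃ c : F, T ^ j = c • 1) ↔ s * p ^ t ∣ j) :
    r * (s * p ^ t) ∈ Set.range (orderOf : Matrix.ProjectiveSpecialLinearGroup (Fin n) F → ℕ) ∨
      (s = 1 ∧ p ^ (t - 1) = n - 1) := by
  by_contra hcon
  push Not at hcon
  obtain ⟨hbad, hnotU⟩ := hcon
  have hn1 : 1 ≤ n := by omega
  have hVnt : Nontrivial V := by
    apply Module.nontrivial_of_finrank_pos (R := F)
    rw [hdim]
    omega
  have hp0 : 0 < p := hp.out.pos
  set q := Fintype.card F with hq
  have hq1 : 1 < q := Fintype.one_lt_card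
  have hζr : ζ ^ r = 1 := by rw [← hζ]; exact pow_orderOf_eq_one ζ
  have hζ0 : ζ ≠ 0 := by
    rintro rfl
    rw [zero_pow hr.ne_zero] at hζr
    exact zero_ne_one hζr
  have hζiff : ∀ j : ℕ, ζ ^ j = 1 ↔ r ∣ j := by
    intro j
    rw [← hζ, orderOf_dvd_iff_pow_eq_one]
  -- `r ∣ q - 1`, hence `r ≠ p`
  have hrq : r ∣ q - 1 := by
    rw [← hζ]
    apply orderOf_dvd_of_pow_eq_one
    exact FiniteField.pow_card_sub_one_eq_one ζ hζ0
  have hcopq : Nat.Coprime p (q - 1) := coprime_card_sub_one (F := F) p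
  have hrp : Nat.Coprime r p := by
    rw [Nat.coprime_primes hr hp.out]
    rintro rfl
    exact hr.one_lt.ne' (Nat.Coprime.eq_one_of_dvd hcopq hrq)
  have hs0 : 0 < s := by
    rcases Nat.eq_zero_or_pos s with h | h
    · rw [h, Nat.coprime_zero_left] at hsp
      exact absurd hsp hp.out.one_lt.ne'
    · exact h
  have hrk : ¬ r ∣ s * p ^ t := by
    intro h
    rcases (Nat.Prime.dvd_mul hr).1 h with h1 | h1
    · exact hrs h1
    · have := hr.dvd_of_dvd_pow h1
      rw [Nat.prime_dvd_prime_iff_eq hr hp.out] at this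
      rw [this] at hrp
      exact hp.out.one_lt.ne' ((Nat.coprime_self p).1 hrp)
  -- indecomposability
  have hind : ∀ W W' : Submodule F V, IsCompl W W' → (∀ a ∈ W, T a ∈ W) →
      (∀ b ∈ W', T b ∈ W') → W = ⊥ ∨ W' = ⊥ := by
    intro W W' hc hW hW'
    by_contra hne
    push Not at hne
    exact hbad (goodL_of_isCompl hn1 hdim hr hrn hζ T hdet hrk hTk W W' hc hW hW' hne.1 hne.2)
  -- scalars
  have hscal : ∀ {j : ℕ} {c : F}, T ^ j = c • 1 → c ≠ 0 := by
    intro j c h
    exact scalar_ne_zero_of_det hn1 hdim (S := T ^ j) (by rw [map_pow, hdet, one_pow]) h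
  have hunit : ∀ {c : F}, c ≠ 0 → c ^ (q - 1) = 1 := fun h =>
    FiniteField.pow_card_sub_one_eq_one _ h
  -- the semisimple and unipotent parts
  set x := T ^ (p ^ t) with hx
  set u := T ^ (s * (q - 1)) with hu
  have hTx : Commute T x := (Commute.refl T).pow_right _
  have hTu : Commute T u := (Commute.refl T).pow_right _
  have hxu : Commute x u := ((Commute.refl T).pow_right _).pow_left _
  have hxsc : ∀ j : ℕ, (∃ c : F, x ^ j = c • 1) ↔ s ∣ j := by
    intro j
    rw [hx, ← pow_mul, hTk, mul_comm s, Nat.mul_dvd_mul_iff_left (pow_pos hp0 t)]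
  obtain ⟨c₀, hc₀⟩ := (hTk (s * p ^ t)).2 dvd_rfl
  have hc₀0 : c₀ ≠ 0 := hscal hc₀
  have hut : u ^ (p ^ t) = 1 := by
    rw [hu, ← pow_mul, mul_right_comm, pow_mul, hc₀, smul_one_pow, hunit hc₀0, one_smul]
  have huord : ∀ j : ℕ, u ^ j = 1 ↔ p ^ t ∣ j := by
    intro j
    constructor
    · intro h
      have h1 : s * p ^ t ∣ s * (q - 1) * j := by
        rw [← hTk]
        exact ⟨1, by rw [one_smul, pow_mul, ← hu, h]⟩
      rw [mul_assoc, Nat.mul_dvd_mul_iff_left hs0] at h1
      exact (Nat.Coprime.pow_left t hcopq).dvd_of_dvd_mul_left h1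
    · rintro ⟨i, rfl⟩
      rw [pow_mul, hut, one_pow]
  -- the order of `x`
  set mx := s * (q - 1) with hmx
  have hxm : x ^ mx = 1 := by
    rw [hx, ← pow_mul, mul_comm, pow_mul, ← hu, hut]
  have hmxF : (mx : F) ≠ 0 := by
    rw [hmx, Nat.cast_mul]
    apply mul_ne_zero
    · rw [Ne, CharP.cast_eq_zero_iff F p]
      intro h
      exact hp.out.one_lt.ne' (Nat.Coprime.eq_one_of_dvd hsp.symm h)
    · exact card_sub_one_ne_zero p
  -- eigenvectors of powers of `x` force scalars
  have hfixc : ∀ (j : ℕ) (c : F), c ≠ 0 → (∃ a : V, a ≠ 0 ∧ (x ^ j) a = c • a) →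
      x ^ j = c • 1 := by
    intro j c hc ⟨a, ha0, ha⟩
    have hy1 : c⁻¹ • x ^ j = 1 := by
      apply fix_trivial hind (y := c⁻¹ • x ^ j) ((hTx.pow_right j).smul_right _) (m := mx * (q - 1))
      · have h1 : (x ^ j) ^ (mx * (q - 1)) = 1 := by
          rw [← pow_mul, mul_comm j, pow_mul, pow_mul, hxm, one_pow, one_pow]
        have h3 : (c⁻¹) ^ (mx * (q - 1)) = 1 := by
          rw [mul_comm, pow_mul, hunit (inv_ne_zero hc), one_pow]
        rw [smul_pow, h1, h3, one_smul]
      · rw [Nat.cast_mul]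
        exact mul_ne_zero hmxF (card_sub_one_ne_zero p)
      · intro h
        apply ha0
        have h1 : a ∈ fixS (c⁻¹ • x ^ j) := by
          rw [mem_fixS, LinearMap.smul_apply, ha, smul_smul, inv_mul_cancel₀ hc, one_smul]
        rw [h] at h1
        exact (Submodule.mem_bot F).1 h1
    have h3 : c • (c⁻¹ • x ^ j) = c • 1 := by rw [hy1]
    rwa [smul_smul, mul_inv_cancel₀ hc, one_smul] at h3
  -- the nilpotency index
  have hex : ∃ e : ℕ, (u - 1) ^ e = 0 := by
    refine ⟨p ^ t, ?_⟩
    rw [sub_one_pow_char_pow p u t, hut, sub_self]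
  classical
  set e := Nat.find hex with he
  have heN : (u - 1) ^ e = 0 := Nat.find_spec hex
  have he0 : e ≠ 0 := by
    intro h
    rw [h, pow_zero] at heN
    exact one_ne_zero heN
  have heN' : (u - 1) ^ (e - 1) ≠ 0 := Nat.find_min hex (by omega)
  have hpe : p ^ (t - 1) < e := by
    by_contra hcon
    push Not at hcon
    have h5 : (u - 1) ^ (p ^ (t - 1)) = 0 := by
      rw [← Nat.sub_add_cancel hcon, pow_add, heN, mul_zero]
    rw [sub_one_pow_char_pow p u (t - 1), sub_eq_zero, huord] at h5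
    have h6 := Nat.le_of_dvd (pow_pos hp0 _) h5
    have h7 : p ^ (t - 1) < p ^ t := Nat.pow_lt_pow_right hp.out.one_lt (by omega)
    omega
  have hen : e ≤ n := by
    apply Nat.find_min' hex
    rw [← hdim]
    exact nilpotent_pow_finrank ⟨_, heN⟩
  have hpt1 : 1 ≤ p ^ (t - 1) := Nat.one_le_pow _ _ hp0
  have he2 : 2 ≤ e := by omega
  by_cases hs1 : s = 1
  · -- unipotent case
    have hlt : p ^ (t - 1) < n - 1 := by
      have := hnotU hs1
      omega
    have hF1 : finrank F F = 1 := Module.finrank_self F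
    have h8 := constructL (W₀ := F) p hn1 hr hrn (ζ • (1 : Module.End F F))
      ⟨1, by rw [pow_one, LinearMap.det_smul, hF1, pow_one, map_one, mul_one, hζr]⟩ (N₀ := r)
      (by
        intro j
        rw [smul_one_pow, smul_one_eq_one_iff, hζiff])
      hrp (m := n - 1) (by omega) (by rw [hF1]; omega) ht hlt
    apply hbad
    rwa [hs1, one_mul]
  · -- mixed case
    have hs2 : 1 < s := by omega
    set M := (u - 1) ^ (e - 1) with hM
    have hxM : Commute x M := (hxu.sub_right (Commute.one_right x)).pow_right _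
    have hrange0 : LinearMap.range M ≠ ⊥ := by
      intro h
      exact heN' (LinearMap.range_eq_bot.1 h)
    have hrangex : ∀ a ∈ LinearMap.range M, x a ∈ LinearMap.range M := by
      rintro a ⟨z, rfl⟩
      exact ⟨x z, by rw [← Module.End.mul_apply, ← hxM.eq, Module.End.mul_apply]⟩
    -- a minimal invariant subspace of the range
    let S : Set (Submodule F V) :=
      {W | W ≠ ⊥ ∧ W ≤ LinearMap.range M ∧ ∀ a ∈ W, x a ∈ W}
    have hSne : S.Nonempty := ⟨LinearMap.range M, hrange0, le_rfl, hrangex⟩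
    obtain ⟨U, ⟨hU0, hUA, hU⟩, hUmin⟩ :=
      WellFounded.has_min (wellFounded_lt (α := Submodule F V)) S hSne
    have hUmin' : ∀ W : Submodule F V, W ≤ U → (∀ a ∈ W, x a ∈ W) → W = ⊥ ∨ W = U := by
      intro W hWU hW
      by_cases h0 : W = ⊥
      · exact Or.inl h0
      · right
        by_contra hne
        exact hUmin W ⟨h0, hWU.trans hUA, hW⟩ (lt_of_le_of_ne hWU hne)
    have hdU1 : 1 ≤ finrank F ↥U := by
      rw [Nat.one_le_iff_ne_zero, Ne, Submodule.finrank_eq_zero]
      exact hU0
    -- `dim U ≥ 2`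
    have hdU2 : 2 ≤ finrank F ↥U := by
      by_contra hlt
      have h1 : finrank F ↥U = 1 := by omega
      obtain ⟨⟨a, haU⟩, ha0, hspan⟩ := finrank_eq_one_iff'.1 h1
      have ha0' : a ≠ 0 := fun h => ha0 (Subtype.ext h)
      obtain ⟨c, hc⟩ := hspan ⟨x a, hU a haU⟩
      have hc' : x a = c • a := by
        have := congrArg Subtype.val hc
        simpa using this.symm
      have hc0 : c ≠ 0 := by
        rintro rfl
        rw [zero_smul] at hc'
        have h3 : (x ^ mx) a = 0 := by
          obtain ⟨l, hl⟩ : ∃ l, mx = l + 1 := ⟨mx - 1, by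
            have : 0 < mx := Nat.mul_pos hs0 (by omega)
            omega⟩
          rw [hl, pow_succ, Module.End.mul_apply, hc', map_zero]
        rw [hxm, Module.End.one_apply] at h3
        exact ha0' h3
      have h4 := hfixc 1 c hc0 ⟨a, ha0', by rw [pow_one]; exact hc'⟩
      have h5 := (hxsc 1).1 ⟨c, h4⟩
      have := Nat.le_of_dvd one_pos h5
      omega
    -- dimensions
    have hchain := K4.chain_bound (u - 1) e heN (by omega)
    rw [← hM, hdim] at hchain
    have hdUA : finrank F ↥U ≤ finrank F ↥(LinearMap.range M) := Submodule.finrank_mono hUA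
    have hdUn : finrank F ↥U ≤ n := by
      rw [← hdim]
      exact Submodule.finrank_le U
    have hlt : p ^ (t - 1) < n - finrank F ↥U := by
      have h3 : e * finrank F ↥U ≤ n := (Nat.mul_le_mul_left e hdUA).trans hchain
      have h4 : (e - 1) * finrank F ↥U + finrank F ↥U = e * finrank F ↥U := by
        rw [← Nat.succ_mul]
        congr 1
        omega
      have h5 : (e - 1) * 2 ≤ (e - 1) * finrank F ↥U := Nat.mul_le_mul_left _ hdU2
      have h6 : (e - 1) * 2 = 2 * e - 2 := by omega
      omega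
    -- the action on `U`
    set xU : Module.End F ↥U := x.restrict hU with hxU
    have hxUcoe : ∀ w, ((xU w : ↥U) : V) = x w := fun w => rfl
    have hUnt : Nontrivial ↥U := Module.nontrivial_of_finrank_pos (R := F) (by omega)
    have hxUm : xU ^ mx = 1 := by
      apply LinearMap.ext
      intro w
      apply Subtype.ext
      rw [res_pow hxUcoe, hxm]
      rfl
    set y₀ : Module.End F ↥U := ζ • xU ^ (q - 1) with hy₀
    have hdety : (LinearMap.det y₀) ^ (r ^ 1) = 1 := by
      have h1 : LinearMap.det xU ≠ 0 := by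
        intro h
        have h3 := congrArg LinearMap.det hxUm
        rw [map_pow, h, map_one, zero_pow (Nat.mul_pos hs0 (by omega)).ne'] at h3
        exact zero_ne_one h3
      rw [pow_one, hy₀, LinearMap.det_smul, map_pow, hunit h1, mul_one, ← pow_mul, mul_comm,
        pow_mul, hζr, one_pow]
    have hy₀pow : ∀ j : ℕ, y₀ ^ j = ζ ^ j • xU ^ ((q - 1) * j) := by
      intro j
      rw [hy₀, smul_pow, ← pow_mul]
    have hy₀ord : ∀ j : ℕ, y₀ ^ j = 1 ↔ r * s ∣ j := by
      intro j
      rw [hy₀pow]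
      constructor
      · intro h
        -- `x^((q-1) j)` is the scalar `ζ^(-j)` on `U`, hence on `V`
        obtain ⟨a, haU, ha0⟩ := (Submodule.ne_bot_iff U).1 hU0
        have hζj0 : ζ ^ j ≠ 0 := pow_ne_zero _ hζ0
        have h1 : (x ^ ((q - 1) * j)) a = (ζ ^ j)⁻¹ • a := by
          have h3 := congrArg (fun f : Module.End F ↥U => ((f ⟨a, haU⟩ : ↥U) : V)) h
          simp only [LinearMap.smul_apply, Submodule.coe_smul, res_pow hxUcoe,
            Module.End.one_apply] at h3
          calc (x ^ ((q - 1) * j)) a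
              = (ζ ^ j)⁻¹ • (ζ ^ j • (x ^ ((q - 1) * j)) a) := by
                rw [smul_smul, inv_mul_cancel₀ hζj0, one_smul]
            _ = (ζ ^ j)⁻¹ • a := by rw [h3]
        have h4 := hfixc ((q - 1) * j) _ (inv_ne_zero hζj0) ⟨a, ha0, h1⟩
        -- `(x^(j r))^(q-1) = 1`
        have h5 : (x ^ (j * r)) ^ (q - 1) = 1 := by
          rw [← pow_mul, mul_right_comm, mul_comm j, pow_mul, h4, smul_one_pow, inv_pow, ← pow_mul,
            mul_comm j, pow_mul, hζr, one_pow, inv_one, one_smul]
        have h6 : (x ^ (j * r)) ^ q = x ^ (j * r) := by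
          have : q = q - 1 + 1 := by omega
          rw [this, pow_succ, h5, one_mul]
        obtain ⟨c, a', ha'0, ha'⟩ := S5.exists_eigen (x ^ (j * r)) h6
        have hc0 : c ≠ 0 := by
          rintro rfl
          rw [zero_smul] at ha'
          have h7 : ((x ^ (j * r)) ^ (q - 1)) a' = 0 := by
            obtain ⟨l, hl⟩ : ∃ l, q - 1 = l + 1 := ⟨q - 2, by omega⟩
            rw [hl, pow_succ, Module.End.mul_apply, ha', map_zero]
          rw [h5, Module.End.one_apply] at h7
          exact ha'0 h7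
        have h8 := hfixc (j * r) c hc0 ⟨a', ha'0, ha'⟩
        have h9 : s ∣ j := by
          have := (hxsc (j * r)).1 ⟨c, h8⟩
          exact (((Nat.Prime.coprime_iff_not_dvd hr).2 hrs).symm).dvd_of_dvd_mul_right this
        obtain ⟨c', hc'⟩ := (hxsc j).2 h9
        have hc'0 : c' ≠ 0 := by
          rintro rfl
          rw [zero_smul] at hc'
          have h7 : (x ^ j) ^ mx = 0 := by
            obtain ⟨l, hl⟩ : ∃ l, mx = l + 1 := ⟨mx - 1, by
              have : 0 < mx := Nat.mul_pos hs0 (by omega)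
              omega⟩
            rw [hl, pow_succ, hc', mul_zero]
          rw [← pow_mul, mul_comm, pow_mul, hxm, one_pow] at h7
          exact one_ne_zero h7
        have h10 : x ^ ((q - 1) * j) = 1 := by
          rw [mul_comm, pow_mul, hc', smul_one_pow, hunit hc'0, one_smul]
        rw [h10] at h4
        have h11 : (ζ ^ j)⁻¹ = 1 := ((smul_one_eq_one_iff (V := V) _).1 h4.symm)
        have h12 : r ∣ j := by
          rw [← hζiff]
          exact inv_eq_one.1 h11
        exact Nat.Coprime.mul_dvd_of_dvd_of_dvd ((Nat.Prime.coprime_iff_not_dvd hr).2 hrs) h12 h9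
      · intro h
        have h1 : r ∣ j := dvd_trans (Dvd.intro _ rfl) h
        have h3 : s ∣ j := dvd_trans (Dvd.intro_left _ rfl) h
        rw [(hζiff j).2 h1, one_smul]
        obtain ⟨c', hc'⟩ := (hxsc j).2 h3
        have hc'0 : c' ≠ 0 := by
          rintro rfl
          rw [zero_smul] at hc'
          have h7 : (x ^ j) ^ mx = 0 := by
            obtain ⟨l, hl⟩ : ∃ l, mx = l + 1 := ⟨mx - 1, by
              have : 0 < mx := Nat.mul_pos hs0 (by omega)
              omega⟩
            rw [hl, pow_succ, hc', mul_zero]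
          rw [← pow_mul, mul_comm, pow_mul, hxm, one_pow] at h7
          exact one_ne_zero h7
        apply LinearMap.ext
        intro w
        apply Subtype.ext
        rw [res_pow hxUcoe, mul_comm, pow_mul, hc', smul_one_pow, hunit hc'0, one_smul]
        rfl
    have h8 := constructL (W₀ := ↥U) p hn1 hr hrn y₀ ⟨1, hdety⟩ hy₀ord
      (Nat.Coprime.mul_left hrp hsp) (m := n - finrank F ↥U) (by omega) (by omega) ht hlt
    apply hbad
    rwa [mul_assoc] at h8

end main

end Cfsg.Agent.Lib.Helper5.PSLCube
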