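import Mathlib
import Cfsg.Agent.Lib.Helper5.CubeL.MixedL
import Cfsg.Agent.Lib.Helper5.PGBC.Torus
import Cfsg.Agent.Lib.Lead.CarveS1
import Cfsg.Agent.Lib.Helper5.CubeL.CarveS6
import Cfsg.Agent.Lib.Lead.CarveS4

/-!
The structure theorem for element orders of `PSL_n(q)` prime to a prime `r ∣ q - 1`, `r ∤ n`, and
the spectra of `L × L × L × r^m`, `L × L × r^m`.
-/

set_option autoImplicit false

namespace Cfsg.Agent.Lib.Helper5.PSLCube

open Module Cfsg.Agent.Lib.Helper5.PSpCube Cfsg.Agent.Lib.Helper5.PGBC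
  Cfsg.Agent.Lib.Helper5.SpecBC Cfsg.Agent.Lib.Carve

/-- the Singer order in `PSL_n(q)` -/
def singerQ (q n : ℕ) : ℕ := (q ^ n - 1) / ((q - 1) * Nat.gcd n (q - 1))

/-- the exceptional unipotent orders -/
def IsUL (p n k : ℕ) : Prop := ∃ t, 1 ≤ t ∧ k = p ^ t ∧ p ^ (t - 1) = n - 1

theorem IsUL.unique {p n k k' : ℕ} (hp : p.Prime) (h : IsUL p n k) (h' : IsUL p n k') :
    k = k' := by
  obtain ⟨t, ht, rfl, h1⟩ := h
  obtain ⟨t', ht', rfl, h1'⟩ := h'
  have h3 : t - 1 = t' - 1 := Nat.pow_right_injective hp.two_le (by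
    show p ^ (t - 1) = p ^ (t' - 1)
    rw [h1, h1'])
  have : t = t' := by omega
  rw [this]

section abs

variable {F : Type*} [Field F] [Fintype F] {V : Type*} [AddCommGroup V] [Module F V]
  [FiniteDimensional F V]

/-- **Semisimple case** for `PSL`. -/
theorem semiL_case (p : ℕ) [hp : Fact p.Prime] [CharP F p] {n : ℕ} (hn : 1 ≤ n)
    (hdim : finrank F V = n) {r : ℕ} (hr : r.Prime) (hrn : ¬ r ∣ n) {ζ : F} (hζ : orderOf ζ = r)
    (T : Module.End F V) (hdet : LinearMap.det T = 1) {k : ℕ} (hkp : Nat.Coprime k p)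
    (hrk : ¬ r ∣ k) (hTk : ∀ j : ℕ, (∃ c : F, T ^ j = c • 1) ↔ k ∣ j) :
    r * k ∈ Set.range (orderOf : Matrix.ProjectiveSpecialLinearGroup (Fin n) F → ℕ) ∨
      k ∣ singerQ (Fintype.card F) n := by
  by_cases hgood : r * k ∈
      Set.range (orderOf : Matrix.ProjectiveSpecialLinearGroup (Fin n) F → ℕ)
  · exact Or.inl hgood
  right
  have hVnt : Nontrivial V := by
    apply Module.nontrivial_of_finrank_pos (R := F)
    rw [hdim]
    omega
  have hind : ∀ W W' : Submodule F V, IsCompl W W' → (∀ a ∈ W, T a ∈ W) →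
      (∀ b ∈ W', T b ∈ W') → W = ⊥ ∨ W' = ⊥ := by
    intro W W' hc hW hW'
    by_contra hne
    push Not at hne
    exact hgood (goodL_of_isCompl hn hdim hr hrn hζ T hdet hrk hTk W W' hc hW hW' hne.1 hne.2)
  obtain ⟨c₀, hc₀⟩ := (hTk k).2 dvd_rfl
  have hc₀0 : c₀ ≠ 0 :=
    scalar_ne_zero_of_det hn hdim (S := T ^ k) (by rw [map_pow, hdet, one_pow]) hc₀
  have hTm : T ^ (k * (Fintype.card F - 1)) = 1 := by
    rw [pow_mul, hc₀, smul_one_pow, FiniteField.pow_card_sub_one_eq_one _ hc₀0, one_smul]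
  have hmF : ((k * (Fintype.card F - 1) : ℕ) : F) ≠ 0 := by
    rw [Nat.cast_mul]
    apply mul_ne_zero
    · rw [Ne, CharP.cast_eq_zero_iff F p]
      intro h
      exact hp.out.one_lt.ne' (Nat.Coprime.eq_one_of_dvd hkp.symm h)
    · exact card_sub_one_ne_zero p
  have hirr : ∀ S : Submodule F V, (∀ a ∈ S, T a ∈ S) → S = ⊥ ∨ S = ⊤ := by
    intro S hS
    obtain ⟨C, hC, hc⟩ := exists_invariant_compl hTm hmF S hS
    rcases hind S C hc hS hC with h | h
    · exact Or.inl h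
    · right
      have := hc.sup_eq_top
      rwa [h, sup_bot_eq] at this
  obtain ⟨c, hc⟩ := S1.singer_pow T hirr hdet
  rw [hdim] at hc
  exact (hTk _).1 ⟨c, hc⟩

/-- **Structure theorem** for `PSL`, abstract form. -/
theorem structL_abs (p : ℕ) [hp : Fact p.Prime] [CharP F p] {n : ℕ} (hn : 2 ≤ n)
    (hdim : finrank F V = n) {r : ℕ} (hr : r.Prime) (hrn : ¬ r ∣ n) {ζ : F} (hζ : orderOf ζ = r)
    (T : Module.End F V) (hdet : LinearMap.det T = 1) {k : ℕ} (hk0 : k ≠ 0)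
    (hrk : ¬ r ∣ k) (hTk : ∀ j : ℕ, (∃ c : F, T ^ j = c • 1) ↔ k ∣ j) :
    r * k ∈ Set.range (orderOf : Matrix.ProjectiveSpecialLinearGroup (Fin n) F → ℕ) ∨
      k ∣ singerQ (Fintype.card F) n ∨ IsUL p n k := by
  obtain ⟨t, s, hps, hks⟩ := Nat.exists_eq_pow_mul_and_not_dvd hk0 p hp.out.ne_one
  have hsp : Nat.Coprime s p := ((Nat.Prime.coprime_iff_not_dvd hp.out).2 hps).symm
  have hrs : ¬ r ∣ s := by
    intro h
    apply hrk
    rw [hks]
    exact Dvd.dvd.mul_left h _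
  rcases Nat.eq_zero_or_pos t with ht | ht
  · rw [ht, pow_zero, one_mul] at hks
    rw [hks] at hrk hTk ⊢
    rcases semiL_case p (by omega) hdim hr hrn hζ T hdet hsp hrk hTk with h | h
    · exact Or.inl h
    · exact Or.inr (Or.inl h)
  · rw [mul_comm] at hks
    rw [hks] at hTk ⊢
    rcases mixedL_case p hn hdim hr hrn hζ T hdet ht hsp hrs hTk with h | ⟨h1, h3⟩
    · exact Or.inl h
    · right
      right
      exact ⟨t, ht, by rw [h1, one_mul], h3⟩

end abs

section concrete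

variable {F : Type*} [Field F] [Fintype F]

/-- an element of order `r` in `F` for `r ∣ q - 1` -/
theorem exists_orderOf_eq {r : ℕ} (hrq : r ∣ Fintype.card F - 1) : ∃ ζ : F, orderOf ζ = r := by
  obtain ⟨ζ, hζ⟩ := exists_unit_orderOf (K := F) (m := r) (by
    rw [Nat.card_units, Nat.card_eq_fintype_card]
    exact hrq)
  refine ⟨(ζ : F), ?_⟩
  rw [← hζ]
  exact orderOf_injective (Units.coeHom F) Units.val_injective ζ

/-- **Structure theorem** for `PSL_n(q)`. -/
theorem struct_psl (p : ℕ) [hp : Fact p.Prime] [CharP F p] {n : ℕ} (hn : 2 ≤ n) {r : ℕ}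
    (hr : r.Prime) (hrn : ¬ r ∣ n) (hrq : r ∣ Fintype.card F - 1) {k : ℕ} (hrk : ¬ r ∣ k)
    (hmem : k ∈ Set.range (orderOf : Matrix.ProjectiveSpecialLinearGroup (Fin n) F → ℕ)) :
    r * k ∈ Set.range (orderOf : Matrix.ProjectiveSpecialLinearGroup (Fin n) F → ℕ) ∨
      k ∣ singerQ (Fintype.card F) n ∨ IsUL p n k := by
  obtain ⟨ζ, hζ⟩ := exists_orderOf_eq hrq
  have hk0 : k ≠ 0 := by
    rintro rfl
    exact hrk (dvd_zero r)
  obtain ⟨T, hdet, hTk⟩ := P1.exists_sl_of_psl hmem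
  exact structL_abs p hn (Module.finrank_fin_fun F) hr hrn hζ T hdet hk0 hrk hTk

/-- divisors of the Singer order are element orders -/
theorem singer_mem {n : ℕ} (hn : 1 ≤ n) {r : ℕ} (hr : r.Prime) (hrn : ¬ r ∣ n) {k : ℕ}
    (hk : k ∣ singerQ (Fintype.card F) n) :
    k ∈ Set.range (orderOf : Matrix.ProjectiveSpecialLinearGroup (Fin n) F → ℕ) := by
  obtain ⟨W, i1, i2, i3, T, hdim, hdet, hT⟩ := S4.exists_singer (F := F) n hn
  have h1 : singerQ (Fintype.card F) n ∈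
      Set.range (orderOf : Matrix.ProjectiveSpecialLinearGroup (Fin n) F → ℕ) :=
    P2.psl_of_abstract hdim hn hr hrn T ⟨0, by rw [pow_zero, pow_one, hdet]⟩ hT
  apply dvd_mem_range_orderOf h1 hk
  obtain ⟨g, hg⟩ := h1
  rw [← hg]
  exact orderOf_pos g

/-- `PSL_n(q)`, `n ≥ 2`, has elements of order `r` -/
theorem r_mem {n : ℕ} (hn : 2 ≤ n) {r : ℕ} (hr : r.Prime) (hrn : ¬ r ∣ n)
    (hrq : r ∣ Fintype.card F - 1) :
    r ∈ Set.range (orderOf : Matrix.ProjectiveSpecialLinearGroup (Fin n) F → ℕ) := by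
  obtain ⟨ζ, hζ⟩ := exists_orderOf_eq (F := F) hrq
  have hdim : finrank F (Fin n → F) = n := Module.finrank_fin_fun F
  -- a line and a complement
  let v : Fin n → F := Pi.single ⟨0, by omega⟩ 1
  have hv : v ≠ 0 := by
    intro h
    have := congrFun h ⟨0, by omega⟩
    simp [v] at this
  obtain ⟨W', hc⟩ := Submodule.exists_isCompl (Submodule.span F {v})
  have hW0 : Submodule.span F {v} ≠ ⊥ := by
    rw [Ne, Submodule.span_singleton_eq_bot]
    exact hv
  have hW'0 : W' ≠ ⊥ := by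
    intro h
    have h1 := Submodule.finrank_add_eq_of_isCompl hc
    rw [h, finrank_bot, add_zero, finrank_span_singleton hv, hdim] at h1
    omega
  have h := goodL_of_isCompl (V := Fin n → F) (by omega) hdim hr hrn hζ 1 (map_one _) (k := 1)
    (by rw [Nat.dvd_one]; exact hr.one_lt.ne')
    (by
      intro j
      simp only [one_pow, one_dvd, iff_true]
      exact ⟨1, (one_smul _ _).symm⟩)
    (Submodule.span F {v}) W' hc (fun a ha => ha) (fun b hb => hb) hW0 hW'0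
  rwa [mul_one] at h

end concrete

section final

variable {F : Type*} [Field F] [Fintype F]

/-- **Main theorem** for `PSL`. -/
theorem psl_cube (p a n r m : ℕ) (hp : p.Prime) (hF : Fintype.card F = p ^ a) (hn : 2 ≤ n)
    (hr : r.Prime) (hrq : r ∣ Fintype.card F - 1) (hrn : ¬ r ∣ n) :
    Set.range (orderOf : Matrix.ProjectiveSpecialLinearGroup (Fin n) F ×
        Matrix.ProjectiveSpecialLinearGroup (Fin n) F ×
        Matrix.ProjectiveSpecialLinearGroup (Fin n) F × Multiplicative (Fin m → ZMod r) → ℕ) =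
      Set.range (orderOf : Matrix.ProjectiveSpecialLinearGroup (Fin n) F ×
        Matrix.ProjectiveSpecialLinearGroup (Fin n) F ×
        Matrix.ProjectiveSpecialLinearGroup (Fin n) F → ℕ) ∧
    ((¬ ∃ j : ℕ, n - 1 = p ^ j) →
      Set.range (orderOf : Matrix.ProjectiveSpecialLinearGroup (Fin n) F ×
          Matrix.ProjectiveSpecialLinearGroup (Fin n) F × Multiplicative (Fin m → ZMod r) → ℕ) =
        Set.range (orderOf : Matrix.ProjectiveSpecialLinearGroup (Fin n) F ×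
          Matrix.ProjectiveSpecialLinearGroup (Fin n) F → ℕ)) := by
  have hpF : Fact p.Prime := ⟨hp⟩
  have hchar : CharP F p := by
    obtain ⟨p', hp'⟩ := CharP.exists F
    have hp'prime : p'.Prime := CharP.char_is_prime F p'
    have h1 : p' ∣ Fintype.card F :=
      (CharP.cast_eq_zero_iff F p' _).1 (Nat.cast_card_eq_zero F)
    rw [hF] at h1
    have h3 : p' = p := (Nat.prime_dvd_prime_iff_eq hp'prime hp).1 (hp'prime.dvd_of_dvd_pow h1)
    rw [← h3]
    exact hp'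
  have hn1 : 1 ≤ n := by omega
  have hQ1 : ∀ k, ¬ r ∣ k → k ∣ singerQ (Fintype.card F) n →
      k ∈ Set.range (orderOf : Matrix.ProjectiveSpecialLinearGroup (Fin n) F → ℕ) :=
    fun k _ hk => singer_mem hn1 hr hrn hk
  have hQ3 : ∀ k, ¬ r ∣ k →
      k ∈ Set.range (orderOf : Matrix.ProjectiveSpecialLinearGroup (Fin n) F → ℕ) →
      r * k ∈ Set.range (orderOf : Matrix.ProjectiveSpecialLinearGroup (Fin n) F → ℕ) ∨
        k ∣ singerQ (Fintype.card F) n ∨ IsUL p n k :=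
    fun k hk hmem => struct_psl p hn hr hrn hrq hk hmem
  have hrmem := r_mem (F := F) hn hr hrn hrq
  constructor
  · apply S6.spectrum_triple hr
    intro x y z hx hy hz
    obtain ⟨a', ⟨x', rfl⟩, b', ⟨y', rfl⟩, c', ⟨z', rfl⟩, h⟩ :=
      S6.triple_comb (ω := Set.range (orderOf : Matrix.ProjectiveSpecialLinearGroup (Fin n) F → ℕ))
        (U := IsUL p n) hr (fun k k' hk hk' => IsUL.unique hp hk hk') hQ1 hQ3 hrmem
        ⟨x, rfl⟩ ⟨y, rfl⟩ ⟨z, rfl⟩ hx hy hz
    exact ⟨x', y', z', h⟩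
  · intro hnp
    apply S6.spectrum_pair hr
    intro x y hx hy
    have hU : ∀ k, ¬ IsUL p n k := by
      rintro k ⟨t, -, -, ht⟩
      exact hnp ⟨t - 1, ht.symm⟩
    obtain ⟨a', ⟨x', rfl⟩, b', ⟨y', rfl⟩, h⟩ :=
      S6.pair_comb (ω := Set.range (orderOf : Matrix.ProjectiveSpecialLinearGroup (Fin n) F → ℕ))
        (U := IsUL p n) hr hU hQ1 hQ3 hrmem ⟨x, rfl⟩ ⟨y, rfl⟩ hx hy
    exact ⟨x', y', h⟩

end final

end Cfsg.Agent.Lib.Helper5.PSLCube
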